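import Cfsg.Agent.Lib.Helper12.TCG.McLAx40320.Rel0
import Cfsg.Agent.Lib.Helper12.TCG.McLAx40320.Rel1
import Cfsg.Agent.Lib.Helper12.TCG.McLAx40320.Rel2
import Cfsg.Agent.Lib.Helper12.TCG.McLAx40320.Rel3
import Cfsg.Agent.Lib.Helper12.TCG.McLAx40320.Rel4
import Cfsg.Agent.Lib.Helper12.TCG.McLAx40320.Rel5
import Cfsg.Agent.Lib.Helper12.TCG.McLAx40320.Rel6
import Cfsg.Agent.Lib.Helper12.TCG.McLAx40320.Rel7
import Cfsg.Agent.Lib.Helper12.TCG.McLAx40320.Tab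
import Cfsg.Agent.Lib.Helper12.McLM.Pres4

/-! the permutation representation for McLAx40320 (generated, helper12) -/

set_option autoImplicit false
set_option maxRecDepth 100000
set_option linter.unusedSimpArgs false
set_option Elab.async false

namespace Cfsg.Agent.Lib.Helper12.TCG.McLAx40320

open Cfsg.Agent.Lib.Helper12.TC Cfsg.Agent.Lib.Helper12.TCG Cfsg.Agent.Lib.Helper12.McLM.Pres4

theorem htN : tN = cN := rfl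

theorem hperm0 : permOneG 18364758544493064720 TT 0 tN = true :=
  permOneG_of_OK (permOK_step hperm0_2 rfl
    (permOK_step hperm0_1 rfl
    (permOK_step hperm0_0 rfl
    (permOK_start 18364758544493064720 TT 0 tN))))

theorem hperm1 : permOneG 18364758544493064720 TT 1 tN = true :=
  permOneG_of_OK (permOK_step hperm1_2 rfl
    (permOK_step hperm1_1 rfl
    (permOK_step hperm1_0 rfl
    (permOK_start 18364758544493064720 TT 1 tN))))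

theorem hperm2 : permOneG 18364758544493064720 TT 2 tN = true :=
  permOneG_of_OK (permOK_step hperm2_2 rfl
    (permOK_step hperm2_1 rfl
    (permOK_step hperm2_0 rfl
    (permOK_start 18364758544493064720 TT 2 tN))))

theorem hperm3 : permOneG 18364758544493064720 TT 3 tN = true :=
  permOneG_of_OK (permOK_step hperm3_2 rfl
    (permOK_step hperm3_1 rfl
    (permOK_step hperm3_0 rfl
    (permOK_start 18364758544493064720 TT 3 tN))))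

theorem hperm : permG cIV TT 4 cN = true := by
  refine permG_of_ones (fun x hx => ?_)
  interval_cases x
  · exact hperm0
  · exact hperm1
  · exact hperm2
  · exact hperm3

/-- words as powers -/
def specs : List (List ℕ × ℕ) :=
  [([3, 1, 0, 1], 4),
   ([0, 3, 0, 1, 3, 1, 0, 3], 2),
   ([0, 2, 0, 3, 2, 3, 0, 2], 2),
   ([3, 0, 2, 0], 4),
   ([0, 2, 3, 0, 2, 0, 3, 2], 2),
   ([0, 3, 2, 0, 3, 0, 2, 3], 2),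
   ([2, 3, 2, 0], 4),
   ([0, 3, 0, 2, 3, 2, 0, 3], 2),
   ([1, 2, 3, 1, 2, 1, 3, 2], 2),
   ([2, 3, 2, 1], 4),
   ([2, 0, 3, 0, 2, 1, 3, 2, 0, 1, 0, 2, 3, 1, 0, 3, 0], 1),
   ([3, 0, 2, 1, 0, 1, 2, 0, 3, 2, 1, 0, 1, 2, 1, 0, 1], 1),
   ([3, 0, 2, 3, 2, 0, 3, 0, 1, 2, 3, 2, 1, 0, 2, 3, 2], 1),
   ([0, 2, 0, 2, 3, 2], 3),
   ([2, 0, 1, 0, 2, 3, 1, 2, 1, 3, 1, 0, 1, 0, 2, 0, 1, 0, 1], 1),
   ([0, 1, 0, 1, 2, 1, 0, 1, 0, 3, 1, 2, 1, 3, 2, 0, 1, 0, 2], 1),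
   ([1, 0, 2, 1, 0, 1, 2, 0, 1, 3, 1, 2, 1, 3, 0, 1, 2, 1, 0], 1),
   ([0], 2),
   ([1], 2),
   ([2], 2),
   ([3], 2),
   ([], 1)]

theorem hspecs : baseL = specs.map (fun s => wpow s.1 s.2) := by
  decide +kernel

theorem hfix0 : ∀ i < tN, (Fn.applyW TT (([3, 1, 0, 1] : List ℕ), 4).1)^[(([3, 1, 0, 1] : List ℕ), 4).2] i = i :=
  Fn.fix_of_rangeOK (Fn.rangeOK_step hm0_2 rfl
    (Fn.rangeOK_step hm0_1 rfl
    (Fn.rangeOK_step hm0_0 rfl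
    (Fn.rangeOK_start TT [3, 1, 0, 1] 4 tN))))

theorem hfix1 : ∀ i < tN, (Fn.applyW TT (([0, 3, 0, 1, 3, 1, 0, 3] : List ℕ), 2).1)^[(([0, 3, 0, 1, 3, 1, 0, 3] : List ℕ), 2).2] i = i :=
  Fn.fix_of_rangeOK (Fn.rangeOK_step hm1_4 rfl
    (Fn.rangeOK_step hm1_3 rfl
    (Fn.rangeOK_step hm1_2 rfl
    (Fn.rangeOK_step hm1_1 rfl
    (Fn.rangeOK_step hm1_0 rfl
    (Fn.rangeOK_start TT [0, 3, 0, 1, 3, 1, 0, 3] 2 tN))))))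

theorem hfix2 : ∀ i < tN, (Fn.applyW TT (([0, 2, 0, 3, 2, 3, 0, 2] : List ℕ), 2).1)^[(([0, 2, 0, 3, 2, 3, 0, 2] : List ℕ), 2).2] i = i :=
  Fn.fix_of_rangeOK (Fn.rangeOK_step hm2_4 rfl
    (Fn.rangeOK_step hm2_3 rfl
    (Fn.rangeOK_step hm2_2 rfl
    (Fn.rangeOK_step hm2_1 rfl
    (Fn.rangeOK_step hm2_0 rfl
    (Fn.rangeOK_start TT [0, 2, 0, 3, 2, 3, 0, 2] 2 tN))))))

theorem hfix3 : ∀ i < tN, (Fn.applyW TT (([3, 0, 2, 0] : List ℕ), 4).1)^[(([3, 0, 2, 0] : List ℕ), 4).2] i = i :=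
  Fn.fix_of_rangeOK (Fn.rangeOK_step hm3_2 rfl
    (Fn.rangeOK_step hm3_1 rfl
    (Fn.rangeOK_step hm3_0 rfl
    (Fn.rangeOK_start TT [3, 0, 2, 0] 4 tN))))

theorem hfix4 : ∀ i < tN, (Fn.applyW TT (([0, 2, 3, 0, 2, 0, 3, 2] : List ℕ), 2).1)^[(([0, 2, 3, 0, 2, 0, 3, 2] : List ℕ), 2).2] i = i :=
  Fn.fix_of_rangeOK (Fn.rangeOK_step hm4_4 rfl
    (Fn.rangeOK_step hm4_3 rfl
    (Fn.rangeOK_step hm4_2 rfl
    (Fn.rangeOK_step hm4_1 rfl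
    (Fn.rangeOK_step hm4_0 rfl
    (Fn.rangeOK_start TT [0, 2, 3, 0, 2, 0, 3, 2] 2 tN))))))

theorem hfix5 : ∀ i < tN, (Fn.applyW TT (([0, 3, 2, 0, 3, 0, 2, 3] : List ℕ), 2).1)^[(([0, 3, 2, 0, 3, 0, 2, 3] : List ℕ), 2).2] i = i :=
  Fn.fix_of_rangeOK (Fn.rangeOK_step hm5_4 rfl
    (Fn.rangeOK_step hm5_3 rfl
    (Fn.rangeOK_step hm5_2 rfl
    (Fn.rangeOK_step hm5_1 rfl
    (Fn.rangeOK_step hm5_0 rfl
    (Fn.rangeOK_start TT [0, 3, 2, 0, 3, 0, 2, 3] 2 tN))))))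

theorem hfix6 : ∀ i < tN, (Fn.applyW TT (([2, 3, 2, 0] : List ℕ), 4).1)^[(([2, 3, 2, 0] : List ℕ), 4).2] i = i :=
  Fn.fix_of_rangeOK (Fn.rangeOK_step hm6_2 rfl
    (Fn.rangeOK_step hm6_1 rfl
    (Fn.rangeOK_step hm6_0 rfl
    (Fn.rangeOK_start TT [2, 3, 2, 0] 4 tN))))

theorem hfix7 : ∀ i < tN, (Fn.applyW TT (([0, 3, 0, 2, 3, 2, 0, 3] : List ℕ), 2).1)^[(([0, 3, 0, 2, 3, 2, 0, 3] : List ℕ), 2).2] i = i :=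
  Fn.fix_of_rangeOK (Fn.rangeOK_step hm7_4 rfl
    (Fn.rangeOK_step hm7_3 rfl
    (Fn.rangeOK_step hm7_2 rfl
    (Fn.rangeOK_step hm7_1 rfl
    (Fn.rangeOK_step hm7_0 rfl
    (Fn.rangeOK_start TT [0, 3, 0, 2, 3, 2, 0, 3] 2 tN))))))

theorem hfix8 : ∀ i < tN, (Fn.applyW TT (([1, 2, 3, 1, 2, 1, 3, 2] : List ℕ), 2).1)^[(([1, 2, 3, 1, 2, 1, 3, 2] : List ℕ), 2).2] i = i :=
  Fn.fix_of_rangeOK (Fn.rangeOK_step hm8_4 rfl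
    (Fn.rangeOK_step hm8_3 rfl
    (Fn.rangeOK_step hm8_2 rfl
    (Fn.rangeOK_step hm8_1 rfl
    (Fn.rangeOK_step hm8_0 rfl
    (Fn.rangeOK_start TT [1, 2, 3, 1, 2, 1, 3, 2] 2 tN))))))

theorem hfix9 : ∀ i < tN, (Fn.applyW TT (([2, 3, 2, 1] : List ℕ), 4).1)^[(([2, 3, 2, 1] : List ℕ), 4).2] i = i :=
  Fn.fix_of_rangeOK (Fn.rangeOK_step hm9_2 rfl
    (Fn.rangeOK_step hm9_1 rfl
    (Fn.rangeOK_step hm9_0 rfl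
    (Fn.rangeOK_start TT [2, 3, 2, 1] 4 tN))))

theorem hfix10 : ∀ i < tN, (Fn.applyW TT (([2, 0, 3, 0, 2, 1, 3, 2, 0, 1, 0, 2, 3, 1, 0, 3, 0] : List ℕ), 1).1)^[(([2, 0, 3, 0, 2, 1, 3, 2, 0, 1, 0, 2, 3, 1, 0, 3, 0] : List ℕ), 1).2] i = i :=
  Fn.fix_of_rangeOK (Fn.rangeOK_step hm10_8 rfl
    (Fn.rangeOK_step hm10_7 rfl
    (Fn.rangeOK_step hm10_6 rfl
    (Fn.rangeOK_step hm10_5 rfl
    (Fn.rangeOK_step hm10_4 rfl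
    (Fn.rangeOK_step hm10_3 rfl
    (Fn.rangeOK_step hm10_2 rfl
    (Fn.rangeOK_step hm10_1 rfl
    (Fn.rangeOK_step hm10_0 rfl
    (Fn.rangeOK_start TT [2, 0, 3, 0, 2, 1, 3, 2, 0, 1, 0, 2, 3, 1, 0, 3, 0] 1 tN))))))))))

theorem hfix11 : ∀ i < tN, (Fn.applyW TT (([3, 0, 2, 1, 0, 1, 2, 0, 3, 2, 1, 0, 1, 2, 1, 0, 1] : List ℕ), 1).1)^[(([3, 0, 2, 1, 0, 1, 2, 0, 3, 2, 1, 0, 1, 2, 1, 0, 1] : List ℕ), 1).2] i = i :=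
  Fn.fix_of_rangeOK (Fn.rangeOK_step hm11_8 rfl
    (Fn.rangeOK_step hm11_7 rfl
    (Fn.rangeOK_step hm11_6 rfl
    (Fn.rangeOK_step hm11_5 rfl
    (Fn.rangeOK_step hm11_4 rfl
    (Fn.rangeOK_step hm11_3 rfl
    (Fn.rangeOK_step hm11_2 rfl
    (Fn.rangeOK_step hm11_1 rfl
    (Fn.rangeOK_step hm11_0 rfl
    (Fn.rangeOK_start TT [3, 0, 2, 1, 0, 1, 2, 0, 3, 2, 1, 0, 1, 2, 1, 0, 1] 1 tN))))))))))

theorem hfix12 : ∀ i < tN, (Fn.applyW TT (([3, 0, 2, 3, 2, 0, 3, 0, 1, 2, 3, 2, 1, 0, 2, 3, 2] : List ℕ), 1).1)^[(([3, 0, 2, 3, 2, 0, 3, 0, 1, 2, 3, 2, 1, 0, 2, 3, 2] : List ℕ), 1).2] i = i :=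
  Fn.fix_of_rangeOK (Fn.rangeOK_step hm12_8 rfl
    (Fn.rangeOK_step hm12_7 rfl
    (Fn.rangeOK_step hm12_6 rfl
    (Fn.rangeOK_step hm12_5 rfl
    (Fn.rangeOK_step hm12_4 rfl
    (Fn.rangeOK_step hm12_3 rfl
    (Fn.rangeOK_step hm12_2 rfl
    (Fn.rangeOK_step hm12_1 rfl
    (Fn.rangeOK_step hm12_0 rfl
    (Fn.rangeOK_start TT [3, 0, 2, 3, 2, 0, 3, 0, 1, 2, 3, 2, 1, 0, 2, 3, 2] 1 tN))))))))))

theorem hfix13 : ∀ i < tN, (Fn.applyW TT (([0, 2, 0, 2, 3, 2] : List ℕ), 3).1)^[(([0, 2, 0, 2, 3, 2] : List ℕ), 3).2] i = i :=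
  Fn.fix_of_rangeOK (Fn.rangeOK_step hm13_3 rfl
    (Fn.rangeOK_step hm13_2 rfl
    (Fn.rangeOK_step hm13_1 rfl
    (Fn.rangeOK_step hm13_0 rfl
    (Fn.rangeOK_start TT [0, 2, 0, 2, 3, 2] 3 tN)))))

theorem hfix14 : ∀ i < tN, (Fn.applyW TT (([2, 0, 1, 0, 2, 3, 1, 2, 1, 3, 1, 0, 1, 0, 2, 0, 1, 0, 1] : List ℕ), 1).1)^[(([2, 0, 1, 0, 2, 3, 1, 2, 1, 3, 1, 0, 1, 0, 2, 0, 1, 0, 1] : List ℕ), 1).2] i = i :=
  Fn.fix_of_rangeOK (Fn.rangeOK_step hm14_9 rfl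
    (Fn.rangeOK_step hm14_8 rfl
    (Fn.rangeOK_step hm14_7 rfl
    (Fn.rangeOK_step hm14_6 rfl
    (Fn.rangeOK_step hm14_5 rfl
    (Fn.rangeOK_step hm14_4 rfl
    (Fn.rangeOK_step hm14_3 rfl
    (Fn.rangeOK_step hm14_2 rfl
    (Fn.rangeOK_step hm14_1 rfl
    (Fn.rangeOK_step hm14_0 rfl
    (Fn.rangeOK_start TT [2, 0, 1, 0, 2, 3, 1, 2, 1, 3, 1, 0, 1, 0, 2, 0, 1, 0, 1] 1 tN)))))))))))

theorem hfix15 : ∀ i < tN, (Fn.applyW TT (([0, 1, 0, 1, 2, 1, 0, 1, 0, 3, 1, 2, 1, 3, 2, 0, 1, 0, 2] : List ℕ), 1).1)^[(([0, 1, 0, 1, 2, 1, 0, 1, 0, 3, 1, 2, 1, 3, 2, 0, 1, 0, 2] : List ℕ), 1).2] i = i :=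
  Fn.fix_of_rangeOK (Fn.rangeOK_step hm15_9 rfl
    (Fn.rangeOK_step hm15_8 rfl
    (Fn.rangeOK_step hm15_7 rfl
    (Fn.rangeOK_step hm15_6 rfl
    (Fn.rangeOK_step hm15_5 rfl
    (Fn.rangeOK_step hm15_4 rfl
    (Fn.rangeOK_step hm15_3 rfl
    (Fn.rangeOK_step hm15_2 rfl
    (Fn.rangeOK_step hm15_1 rfl
    (Fn.rangeOK_step hm15_0 rfl
    (Fn.rangeOK_start TT [0, 1, 0, 1, 2, 1, 0, 1, 0, 3, 1, 2, 1, 3, 2, 0, 1, 0, 2] 1 tN)))))))))))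

theorem hfix16 : ∀ i < tN, (Fn.applyW TT (([1, 0, 2, 1, 0, 1, 2, 0, 1, 3, 1, 2, 1, 3, 0, 1, 2, 1, 0] : List ℕ), 1).1)^[(([1, 0, 2, 1, 0, 1, 2, 0, 1, 3, 1, 2, 1, 3, 0, 1, 2, 1, 0] : List ℕ), 1).2] i = i :=
  Fn.fix_of_rangeOK (Fn.rangeOK_step hm16_9 rfl
    (Fn.rangeOK_step hm16_8 rfl
    (Fn.rangeOK_step hm16_7 rfl
    (Fn.rangeOK_step hm16_6 rfl
    (Fn.rangeOK_step hm16_5 rfl
    (Fn.rangeOK_step hm16_4 rfl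
    (Fn.rangeOK_step hm16_3 rfl
    (Fn.rangeOK_step hm16_2 rfl
    (Fn.rangeOK_step hm16_1 rfl
    (Fn.rangeOK_step hm16_0 rfl
    (Fn.rangeOK_start TT [1, 0, 2, 1, 0, 1, 2, 0, 1, 3, 1, 2, 1, 3, 0, 1, 2, 1, 0] 1 tN)))))))))))

theorem hfixall : Fn.FixAll TT tN specs :=
  Fn.fixAll_cons hfix0
    (Fn.fixAll_cons hfix1
    (Fn.fixAll_cons hfix2
    (Fn.fixAll_cons hfix3
    (Fn.fixAll_cons hfix4
    (Fn.fixAll_cons hfix5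
    (Fn.fixAll_cons hfix6
    (Fn.fixAll_cons hfix7
    (Fn.fixAll_cons hfix8
    (Fn.fixAll_cons hfix9
    (Fn.fixAll_cons hfix10
    (Fn.fixAll_cons hfix11
    (Fn.fixAll_cons hfix12
    (Fn.fixAll_cons hfix13
    (Fn.fixAll_cons hfix14
    (Fn.fixAll_cons hfix15
    (Fn.fixAll_cons hfix16
    (Fn.fixAll_cons (Fn.fix_of_marksK hm17)
    (Fn.fixAll_cons (Fn.fix_of_marksK hm18)
    (Fn.fixAll_cons (Fn.fix_of_marksK hm19)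
    (Fn.fixAll_cons (Fn.fix_of_marksK hm20)
    (Fn.fixAll_cons (Fn.fix_of_marksK hm21)
    (Fn.fixAll_nil TT tN))))))))))))))))))))))

theorem hrels : Fn.relsK TT cN baseL = true := by
  rw [hspecs]
  exact Fn.relsK_of_fixAll hfixall

theorem hsub : Fn.subK TT 4 sw = true := by decide +kernel

theorem htrans : Fn.transK TT 4 cN sw = true := by decide +kernel

end Cfsg.Agent.Lib.Helper12.TCG.McLAx40320
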