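import Cfsg.Agent.Lib.Helper12.TCG.McLAx40320.Chk0
import Cfsg.Agent.Lib.Helper12.TCG.McLAx40320.Chk1
import Cfsg.Agent.Lib.Helper12.TCG.McLAx40320.Chk2
import Cfsg.Agent.Lib.Helper12.TCG.McLAx40320.Chk3
import Cfsg.Agent.Lib.Helper12.TCG.McLAx40320.Chk4
import Cfsg.Agent.Lib.Helper12.TCG.McLAx40320.Chk5
import Cfsg.Agent.Lib.Helper12.TCG.McLAx40320.Perm
import Cfsg.Agent.Lib.Helper12.TCG.McLAx40320.Fin

/-! the index theorem for McLAx40320 (generated, helper12) -/

set_option autoImplicit false
set_option maxRecDepth 100000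
set_option linter.unusedSimpArgs false

namespace Cfsg.Agent.Lib.Helper12.TCG.McLAx40320

open Cfsg.Agent.Lib.Helper12.TC Cfsg.Agent.Lib.Helper12.TCG Cfsg.Agent.Lib.Helper12.McLM.Pres4

/-- the chunks of the certificate -/
def chunks : List (ℕ × List ℕ) :=
  [(72480, c0), (74480, c1), (76480, c2), (78480, c3), (80480, c4), (82480, c5), (84480, c6), (86480, c7), (88480, c8), (90480, c9), (92480, c10), (94480, c11), (96480, c12), (98480, c13), (100480, c14), (102480, c15), (104480, c16), (106480, c17), (108480, c18), (110480, c19), (112480, c20), (114480, c21), (116480, c22), (118480, c23), (120480, c24), (122480, c25), (124480, c26), (126480, c27), (128480, c28), (130480, c29), (132480, c30), (134480, c31), (136480, c32), (138480, c33), (140480, c34), (142480, c35), (144480, c36), (146480, c37), (148480, c38), (150480, c39), (152480, c40), (154480, c41)]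

theorem hcover : coverK cD cK chunks = true := by decide +kernel

theorem hchunks : ∀ c ∈ chunks, chunkG cIV F RW cR0 c.2 c.1 = true := by
  unfold chunks
  simp only [List.forall_mem_cons, List.not_mem_nil, false_imp_iff, implies_true, and_true]
  exact ⟨chunk0, chunk1, chunk2, chunk3, chunk4, chunk5, chunk6, chunk7, chunk8, chunk9, chunk10, chunk11, chunk12, chunk13, chunk14, chunk15, chunk16, chunk17, chunk18, chunk19, chunk20, chunk21, chunk22, chunk23, chunk24, chunk25, chunk26, chunk27, chunk28, chunk29, chunk30, chunk31, chunk32, chunk33, chunk34, chunk35, chunk36, chunk37, chunk38, chunk39, chunk40, chunk41⟩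

end Cfsg.Agent.Lib.Helper12.TCG.McLAx40320
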